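import Cfsg.Agent.Lib.Helper3.QSim.HDefs

/-!
# Project QSim (S5981): package [HNORMZ] — normalisation of an orthogonal `K`-basis
-/

set_option autoImplicit false

namespace Cfsg.Agent.Lib.Helper35.QSim

open Cfsg.Agent.Lib.Helper3.QSim

universe u

theorem pkgHNormz : PkgHNormz.{u} := by
  intro F K W _ _ _ _ _ _ _ _ _ _ σ β k hσσ hsymm hnd hadj hsurj v hv
  classical
  -- the norm forms
  let τ : Fin k → K →ₗ[F] F := fun j =>
    { toFun := fun c => β (v j) (c • v j)
      map_add' := by intro c c'; rw [add_smul, map_add]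
      map_smul' := by
        intro t c
        rw [smul_assoc, map_smul]; rfl }
  have hτ : ∀ j c, τ j c = β (v j) (c • v j) := fun j c => rfl
  have hdiag : ∀ j (a b : K), β (a • v j) (b • v j) = τ j (σ a * b) := by
    intro j a b
    rw [hadj, hτ, mul_smul]
  have hτinv : ∀ j c, τ j (σ c) = τ j c := by
    intro j c
    rw [hτ, hτ, ← hadj, hsymm]
  have hτne : ∀ j, ∃ c, τ j c ≠ 0 := by
    intro j
    obtain ⟨u, hu⟩ := hnd (v j) (v.ne_zero j)
    refine ⟨v.repr u j, ?_⟩
    have hu' : β (v j) (∑ l, v.repr u l • v l) ≠ 0 := by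
      rw [v.sum_repr u]; exact hu
    rw [map_sum, Finset.sum_eq_single j] at hu'
    · exact hu'
    · intro l _ hlj
      have := hv j l (Ne.symm hlj) 1 (v.repr u l)
      rwa [one_smul] at this
    · intro h; exact absurd (Finset.mem_univ j) h
  let Φ : Fin k → K →ₗ[F] (K →ₗ[F] F) := fun j => (LinearMap.mul F K).compr₂ (τ j)
  have hΦ : ∀ j d c, Φ j d c = τ j (d * c) := fun j d c => rfl
  have hΦinj : ∀ j, Function.Injective (Φ j) := by
    intro j
    rw [injective_iff_map_eq_zero]
    intro d hd
    by_contra hd0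
    obtain ⟨c, hc⟩ := hτne j
    apply hc
    have h1 := LinearMap.congr_fun hd (d⁻¹ * c)
    rw [hΦ, mul_inv_cancel_left₀ hd0] at h1
    simpa using h1
  have hfin : Module.Finite F K := Module.Finite.of_finite
  have hΦsurj : ∀ j, Function.Surjective (Φ j) := by
    intro j
    exact (LinearMap.injective_iff_surjective_of_finrank_eq_finrank
      (Subspace.dual_finrank_eq (K := F) (V := K)).symm).1 (hΦinj j)
  rcases Nat.eq_zero_or_pos k with hk0 | hkpos
  · subst hk0
    exact ⟨v, fun _ => 0, fun j => j.elim0⟩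
  · let j0 : Fin k := ⟨0, hkpos⟩
    have hd : ∀ j, ∃ d : K, Φ j d = τ j0 := fun j => hΦsurj j (τ j0)
    choose d hd using hd
    have hd' : ∀ j c, τ j (d j * c) = τ j0 c := fun j c => by
      have := LinearMap.congr_fun (hd j) c
      rwa [hΦ] at this
    have hdne : ∀ j, d j ≠ 0 := by
      intro j h0
      obtain ⟨c, hc⟩ := hτne j0
      apply hc
      rw [← hd' j c, h0, zero_mul, map_zero]
    have hdσ : ∀ j, σ (d j) = d j := by
      intro j
      apply hΦinj j
      apply LinearMap.ext
      intro c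
      have h1 : τ j (σ (d j) * c) = τ j (d j * σ c) := by
        rw [← hτinv j (d j * σ c), map_mul σ, hσσ]
      rw [hΦ, hΦ, h1, hd', hd', hτinv]
    choose m hm using fun j => hsurj (d j) (hdne j) (hdσ j)
    have hmne : ∀ j, m j ≠ 0 := by
      intro j h0
      apply hdne j
      rw [← hm j, h0, zero_mul]
    refine ⟨v.isUnitSMul (fun j => (hmne j).isUnit), ⇑(τ j0), ?_⟩
    intro j l a b
    rw [Module.Basis.isUnitSMul_apply, Module.Basis.isUnitSMul_apply, smul_smul, smul_smul]
    by_cases hjl : j = l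
    · subst hjl
      rw [if_pos rfl, hdiag, ← hd' j]
      congr 1
      rw [map_mul σ, ← hm j]; ring
    · rw [if_neg hjl]
      exact hv j l hjl _ _

end Cfsg.Agent.Lib.Helper35.QSim
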